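import Cfsg.Agent.H494.TwoB.Frame
import Cfsg.Agent.H658.TwoB.Two
import Cfsg.Agent.S2058

/-!
# The row 2.B of S2491, S2492 (helper494)

`rowA_of` : every element of the cover `2.B` is a commutator, from the pieces of `tools/plans/S2491_2B.md`.
-/

set_option autoImplicit false
set_option maxRecDepth 100000

namespace Cfsg.Agent.H494.TwoB

open Cfsg Cfsg.Agent Cfsg.Agent.H777.Ore Cfsg.Agent.H844.Ore Cfsg.Agent.H480.Ore
open Cfsg.Agent.MonsterX Cfsg.Agent.MonsterX.InstData Cfsg.Agent.MonsterX.MainPack Cfsg.Agent.MonsterU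
open Cfsg.Agent.MonsterP Cfsg.Agent.MonsterN
open Cfsg.Agent.MonsterX.MainBasic Cfsg.Agent.MonsterX.MainSimple Cfsg.Agent.MonsterX.Model
open Cfsg.Agent.H630.Baby (Mon)
open Cfsg.Agent.H6.QO (RowN RowA pce_center)
open Cfsg.Agent.LThreeB (XT mem_XT centXT)
open Cfsg.Agent.BpSpor.MBigModel (MG zz)
open Cfsg.Agent.H820.Par (QQ eta)
open Cfsg.Agent.MonsterU.Lam2 (IsType)
open Cfsg.Agent.H658.TwoB (HTab H23 HFour two_elt three_elt)
open Subgroup (centralizer mem_centralizer_singleton_iff center)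

/-- the cover -/
theorem exists_model : ∃ u : Mon, LThreeB.Row.TA u ∧ Nat.card ↥(center (LL u)) = 2 ∧ commutator (LL u) = ⊤ ∧
    Nonempty (LL u ⧸ center (LL u) ≃* Spor.BabyMonster) := by
  obtain ⟨⟨h1, hp, he⟩, -⟩ := ModelB.fieldsKS LitFin.all KDone.lnk KDone.lft (NodesGrp.prel LitFin.H)
    (NodesNe.ne LitFin.H) LitFin.conj_ten Cfsg.Agent.S1704.result KDone.lnk.x₀_mem
  obtain ⟨g, hg⟩ := ModelB.exists_conj_t LitFin.all.hG LitFin.all.hR KDone.lnk KDone.lft KDone.lnk.x₀_mem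
  exact ⟨_, isConj_iff.2 ⟨g, hg⟩, h1, hp, he⟩

/-- one group is enough -/
theorem rowA_of_allC (h : ∀ u : Mon, LThreeB.Row.TA u → Nat.card ↥(center (LL u)) = 2 →
    (LL u ⧸ center (LL u) ≃* Spor.BabyMonster) → AllC (LL u)) : RowA Spor.BabyMonster := by
  have hfM : Finite Mon := MThirteen.Row.finite
  obtain ⟨u, hA, h2, hp, ⟨e⟩⟩ := exists_model
  refine RowA.of_univ Cfsg.Agent.S2058.result (pce_center hp e) ?_ (h u hA h2 e)
  have h3 : (e.toMonoidHom.comp (QuotientGroup.mk' (center (LL u)))).ker = center (LL u) := by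
    ext g
    rw [MonoidHom.mem_ker]
    show e (QuotientGroup.mk g) = 1 ↔ _
    rw [map_eq_one_iff e e.injective, QuotientGroup.eq_one_iff]
  rw [h3, h2, Nat.card_congr Multiplicative.toAdd, Nat.card_zmod]

/-- `x` commutes with an involution `w` of class 2B commuting with `t` such that `w t` has class 2A -/
def TwoW (x t : MG) : Prop :=
  ∃ w : MG, IsConj zz w ∧ w * x = x * w ∧ w * t = t * w ∧ LThreeB.Row.TA (w * t)

theorem isC_of {u : Mon} {g : LL u} (h : ∃ a b : MG, a * u = u * a ∧ b * u = u * b ∧ (g : MG) = a * b * a⁻¹ * b⁻¹) :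
    IsC g := by
  obtain ⟨a, b, ha, hb, hg⟩ := h
  exact ⟨⟨a, mem_centralizer_singleton_iff.2 ha⟩, ⟨b, mem_centralizer_singleton_iff.2 hb⟩, Subtype.ext hg⟩

/-- **The row 2.B.** -/
theorem rowA_of {K : ℕ} (hK : 806215680 ≤ K) (H : HTab) (h23 : H23) (h4 : HFour)
    (CP : ∀ {w t u : MG}, IsConj zz w → LThreeB.Row.TA t → w * t = t * w → LThreeB.Row.TA (w * t) → u ∈ QQ →
      IsType 2 (eta u) → ∃ k : MG, k * w * k⁻¹ = zz ∧ k * t * k⁻¹ = u)
    (hT : ∀ u : Mon, LThreeB.Row.TA u → Nat.card ↥(center (LL u)) = 2 →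
      ∀ e : LL u ⧸ center (LL u) ≃* Spor.BabyMonster, ∀ g : LL u,
      Nat.card ↥(centralizer ({e (QuotientGroup.mk g)} : Set Spor.BabyMonster)) ≤ K → IsC g)
    (h5 : ∀ y : Spor.BabyMonster, (orderOf y).Prime → 5 ≤ orderOf y →
      Nat.card ↥(centralizer ({y} : Set Spor.BabyMonster)) ≤ K)
    (h9 : ∀ y : Spor.BabyMonster, orderOf y = 9 → Nat.card ↥(centralizer ({y} : Set Spor.BabyMonster)) ≤ K)
    (hA3 : ∀ u : Mon, LThreeB.Row.TA u → Nat.card ↥(center (LL u)) = 2 →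
      ∀ e : LL u ⧸ center (LL u) ≃* Spor.BabyMonster, ∀ (x t : LL u) (n : ℕ), orderOf x = 3 → FiType u (x : Mon) →
      t ^ 2 ^ n = 1 → t * x = x * t →
      IsC (t * x) ∨ Nat.card ↥(centralizer ({e (QuotientGroup.mk (t * x))} : Set Spor.BabyMonster)) ≤ K)
    (hP8 : ∀ {x t : MG}, orderOf x = 3 → LThreeB.Row.TA t → x * t = t * x →
      TwoW x t ∨ Nat.card ↥(XT x t) ≤ 2 * K ∨ FiType t x) : RowA Spor.BabyMonster := by
  have hfM : Finite Mon := MThirteen.Row.finite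
  have hBI : Spor.IsoB Spor.BabyMonster := ⟨MulEquiv.refl _⟩
  have hfB : Finite Spor.BabyMonster := Nat.finite_of_card_ne_zero (by rw [NotCT.Orders.b hBI]; norm_num)
  refine rowA_of_allC fun u hA h2 e => ?_
  refine frame hBI hA h2 e hK (hT u hA h2 e) h5 (hA3 u hA h2 e) ?_ ?_ h9
  · intro g k hg
    apply isC_of
    refine two_elt H h23 h4 hA (mem_centralizer_singleton_iff.1 g.2) ?_
    have h3 : orderOf (g : MG) ∣ 2 ^ k := by
      rw [Subgroup.orderOf_coe]
      exact orderOf_dvd_of_pow_eq_one hg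
    obtain ⟨j, -, hj⟩ := (Nat.dvd_prime_pow Nat.prime_two).1 h3
    exact ⟨j, hj⟩
  · intro x hx hlt hF
    have hxo : orderOf (x : MG) = 3 := by rw [Subgroup.orderOf_coe, hx]
    have hxu : (x : MG) * u = u * x := mem_centralizer_singleton_iff.1 x.2
    rcases hP8 hxo hA hxu with h3 | h3 | h3
    · obtain ⟨w, hw, hwx, hwu, hwt⟩ := h3
      obtain ⟨k1, k2⟩ := three_elt H h23 h4 CP hxo hA hxu hw hwx hwu hwt
      exact ⟨isC_of k1, isC_of k2⟩
    · exfalso
      have h6 : Nat.card ↥(XT (x : MG) u) =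
          Nat.card ↥(centralizer ({e (QuotientGroup.mk x)} : Set Spor.BabyMonster)) * 2 := by
        rw [← H979.CovLift.card_cent h2 e Nat.prime_three (by norm_num) hx]
        exact Nat.card_congr (centXT x).toEquiv
      rw [h6] at h3
      omega
    · exact absurd h3 hF

end Cfsg.Agent.H494.TwoB
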