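import Cfsg.Agent.H113.QS.TwoB.Main
import Cfsg.Agent.H570.Ore.RowB
import Cfsg.Agent.H630.TwoB.DivChart
import Cfsg.Agent.H494.TwoB.Final

/-!
# P1 of 2.B for the centralizers of the Monster (S2491, S2492; helper494, from helper113 and helper630)
-/

set_option autoImplicit false
set_option maxRecDepth 100000

namespace Cfsg.Agent.H494.TwoB

open Cfsg Cfsg.Agent Cfsg.Agent.H777.Ore Cfsg.Agent.H844.Ore Cfsg.Agent.H480.Ore
open Cfsg.Agent.H630.Baby (Mon)
open Cfsg.Agent.BpSpor.MBigModel (MG zz)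
open Cfsg.Agent.H820.Par (QQ eta chart)
open Cfsg.Agent.MonsterU.Lam2 (IsType)
open Cfsg.Agent.H658.TwoB (exists_u ta_of_type)
open Cfsg.Agent.H819.TypeTwo (type_leechU)
open Cfsg.Agent.Characters
open Cfsg.Agent.H715.Mon.Grp (SThree)
open Subgroup (centralizer mem_centralizer_singleton_iff center)

/-- conjugation of the centralizers -/
noncomputable def conjLL {u s v : Mon} (h : s * u * s⁻¹ = v) : LL u ≃* LL v where
  toFun x := ⟨s * x * s⁻¹, by
    rw [mem_centralizer_singleton_iff, ← h]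
    have h1 := mem_centralizer_singleton_iff.1 x.2
    calc s * (x : Mon) * s⁻¹ * (s * u * s⁻¹) = s * ((x : Mon) * u) * s⁻¹ := by group
      _ = s * (u * (x : Mon)) * s⁻¹ := by rw [h1]
      _ = s * u * s⁻¹ * (s * (x : Mon) * s⁻¹) := by group⟩
  invFun x := ⟨s⁻¹ * x * s, by
    rw [mem_centralizer_singleton_iff]
    have h1 := mem_centralizer_singleton_iff.1 x.2
    have h2 : u = s⁻¹ * v * s := by rw [← h]; group
    rw [h2]
    calc s⁻¹ * (x : Mon) * s * (s⁻¹ * v * s) = s⁻¹ * ((x : Mon) * v) * s := by group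
      _ = s⁻¹ * (v * (x : Mon)) * s := by rw [h1]
      _ = s⁻¹ * v * s * (s⁻¹ * (x : Mon) * s) := by group⟩
  left_inv x := Subtype.ext (by
    show s⁻¹ * (s * (x : Mon) * s⁻¹) * s = x
    group)
  right_inv x := Subtype.ext (by
    show s * (s⁻¹ * (x : Mon) * s) * s⁻¹ = x
    group)
  map_mul' x y := Subtype.ext (by
    show s * ((x : Mon) * y) * s⁻¹ = s * x * s⁻¹ * (s * y * s⁻¹)
    group)

theorem conjLL_zu {u s v : Mon} (h : s * u * s⁻¹ = v) : conjLL h (zu u) = zu v := Subtype.ext h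

theorem card_cent_congr {X Y : Type*} [Group X] [Group Y] (f : X ≃* Y) (x : X) :
    Nat.card ↥(centralizer ({f x} : Set Y)) = Nat.card ↥(centralizer ({x} : Set X)) := by
  refine Nat.card_congr ⟨fun y => ⟨f.symm y, ?_⟩, fun y => ⟨f y, ?_⟩, fun y => Subtype.ext (f.apply_symm_apply _),
    fun y => Subtype.ext (f.symm_apply_apply _)⟩
  · rw [mem_centralizer_singleton_iff]
    apply f.injective
    rw [map_mul, map_mul, f.apply_symm_apply]
    exact mem_centralizer_singleton_iff.1 y.2
  · rw [mem_centralizer_singleton_iff, ← map_mul, ← map_mul, mem_centralizer_singleton_iff.1 y.2]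

/-- **P1** -/
theorem p1 (h3 : SThree.{0}) (u : Mon) (hA : LThreeB.Row.TA u) (h2 : Nat.card ↥(center (LL u)) = 2)
    (e : LL u ⧸ center (LL u) ≃* Spor.BabyMonster) (g : LL u)
    (hg : Nat.card ↥(centralizer ({e (QuotientGroup.mk g)} : Set Spor.BabyMonster)) ≤ 1500000000) : IsC g := by
  have hfM : Finite Mon := MThirteen.Row.finite
  have hB := H570.Ore.RowB.isoB
  obtain ⟨eB⟩ := hB
  have := H570.Ore.RowB.simple
  obtain ⟨v, hv, ev⟩ := exists_u
  have hv2 : IsType 2 (eta v) := by rw [ev]; exact type_leechU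
  have h1 : IsConj u v := (show IsConj _ u from hA).symm.trans (ta_of_type hv hv2)
  obtain ⟨s, hs⟩ := isConj_iff.1 h1
  let φ := conjLL hs
  let π : LL v →* BabyM.Inst.M.G :=
    (eB.symm.toMonoidHom.comp (e.toMonoidHom.comp (QuotientGroup.mk' (center (LL u))))).comp φ.symm.toMonoidHom
  have hker : ∀ x : LL v, π x = 1 ↔ x = 1 ∨ x = zu v := by
    intro x
    have k1 : π x = 1 ↔ e (QuotientGroup.mk (φ.symm x)) = 1 := by
      show eB.symm (e (QuotientGroup.mk (φ.symm x))) = 1 ↔ _
      rw [map_eq_one_iff eB.symm eB.symm.injective]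
    rw [k1, ker_cases hA h2 e]
    constructor
    · rintro (h | h)
      · exact Or.inl (φ.symm.injective (by rw [h, map_one]))
      · right
        have : x = φ (zu u) := by rw [← h]; exact (φ.apply_symm_apply x).symm
        rw [this]
        exact conjLL_zu hs
    · rintro (h | h)
      · left; rw [h, map_one]
      · right
        apply φ.injective
        rw [φ.apply_symm_apply, h]
        exact (conjLL_zu hs).symm
  have hsurj : Function.Surjective π := by
    intro b
    obtain ⟨x, hx⟩ := QuotientGroup.mk_surjective (e.symm (eB b))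
    refine ⟨φ x, ?_⟩
    show eB.symm (e (QuotientGroup.mk (φ.symm (φ x)))) = b
    rw [φ.symm_apply_apply, hx, e.apply_symm_apply, eB.symm_apply_apply]
  have hzc : ∀ x : LL v, zu v * x = x * zu v := fun x => Subtype.ext (mem_centralizer_singleton_iff.1 x.2).symm
  have hcen : π.ker ≤ center (LL v) := by
    intro x hx
    rw [Subgroup.mem_center_iff]
    intro y
    rcases (hker x).1 hx with rfl | rfl
    · rw [one_mul, mul_one]
    · exact (hzc y).symm
  have hvA : LThreeB.Row.TA v := ta_of_type hv hv2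
  have hzv : zu v ≠ 1 := fun h => ta_ne hvA (congrArg Subtype.val h)
  have hcard : Nat.card π.ker = 2 := by
    rw [Nat.card_eq_two_iff]
    refine ⟨⟨1, map_one π⟩, ⟨zu v, (hker _).2 (Or.inr rfl)⟩, fun h => hzv (congrArg Subtype.val h).symm, ?_⟩
    rw [Set.eq_univ_iff_forall]
    rintro ⟨x, hx⟩
    rcases (hker x).1 hx with rfl | rfl
    · exact Or.inl rfl
    · exact Or.inr rfl
  have hdiv : ∀ χ : IrrCharacter (LL v), (∃ z ∈ π.ker, (χ : LL v → ℂ) z ≠ (χ : LL v → ℂ) 1) →
      2 ^ 11 ∣ charDegree (χ : LL v → ℂ) := by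
    rintro χ ⟨z, hz, hne⟩
    rcases (hker z).1 hz with rfl | rfl
    · exact absurd rfl hne
    · exact H630.TwoB.DivChart.div11_irr chart hv hv2 χ.2 hne
  have key : ∃ a b : LL v, φ g = a * b * a⁻¹ * b⁻¹ := by
    refine H113.QS.TwoB.isC_of_le (H570.Ore.RowB.dt h3) hsurj hcen hcard hdiv ?_
    have h5 : π (φ g) = eB.symm (e (QuotientGroup.mk g)) := by
      show eB.symm (e (QuotientGroup.mk (φ.symm (φ g)))) = _
      rw [φ.symm_apply_apply]
    rw [h5, card_cent_congr]
    exact hg
  obtain ⟨a, b, hab⟩ := key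
  refine ⟨φ.symm a, φ.symm b, φ.injective ?_⟩
  rw [hab]
  simp only [map_mul, map_inv, φ.apply_symm_apply]

end Cfsg.Agent.H494.TwoB
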