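import Cfsg.Agent.H480.Ore.BFiType
import Cfsg.Agent.H844.Ore.BFrame
import Cfsg.Agent.H6.QO.Frame

/-!
# 2.B, the frame (S2491, S2492; piece P9 of `tools/plans/S2491_2B.md`; helper494)

`u` in the class 2A of the Monster, `L = C(u)`, `e : L / Z(L) ≃* B`.

`frame` : every element of `L` is a commutator, given for some bound `K ≥ 806215680`
* `hT` (P1): `|C_B(g)| ≤ K` implies that `g` is a commutator;
* `h5` : `|C_B(y)| ≤ K` for `y` of prime order at least five;
* `hTwo` (P2 - P5): the 2-elements of `L` are commutators;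
* `hThree` (P8, P2 - P5): `x`, `x u` are commutators for `x` of order three, `|C_B(x)| > K`, not of type 3A;
* `h9` : `|C_B(y)| ≤ K` for `y` of order nine;
* `hA3` (P7) : the elements `t x` over the class 3A, `t` a 2-element.
-/

set_option autoImplicit false
set_option maxRecDepth 100000

universe v

namespace Cfsg.Agent.H494.TwoB

open Cfsg Cfsg.Agent Cfsg.Agent.H777.Ore Cfsg.Agent.H844.Ore Cfsg.Agent.H480.Ore
open Cfsg.Agent.H630.Baby (Mon)
open Cfsg.Agent.H6.QO (RowN RowA)
open Subgroup (centralizer mem_centralizer_singleton_iff center)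

/-- the centralizer of `u` in the Monster -/
abbrev LL (u : Mon) : Type := ↥(centralizer ({u} : Set Mon))

/-- `u` as an element of its centralizer -/
def zu (u : Mon) : LL u := ⟨u, mem_centralizer_singleton_iff.2 rfl⟩

section

variable {u : Mon} (hA : LThreeB.Row.TA u) (h2 : Nat.card ↥(center (LL u)) = 2) {B : Type v} [Group B]
  (e : LL u ⧸ center (LL u) ≃* B)

theorem ta_sq (hA : LThreeB.Row.TA u) : u * u = 1 := by
  have ho := MThirteen.Row.ta_order hA
  rw [← pow_two, ← ho, pow_orderOf_eq_one]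

theorem ta_ne (hA : LThreeB.Row.TA u) : u ≠ 1 := by
  have ho := MThirteen.Row.ta_order hA
  rintro rfl
  rw [orderOf_one] at ho
  norm_num at ho

include hA h2 in
/-- the kernel -/
theorem ker_cases {g : LL u} : e (QuotientGroup.mk g) = 1 ↔ g = 1 ∨ g = zu u := by
  rw [map_eq_one_iff e e.injective, QuotientGroup.eq_one_iff, center_cases (ta_ne hA) h2]
  constructor
  · rintro (h | h)
    · exact Or.inl (Subtype.ext h)
    · exact Or.inr (Subtype.ext h)
  · rintro (h | h)
    · exact Or.inl (congrArg Subtype.val h)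
    · exact Or.inr (congrArg Subtype.val h)

include hA h2 in
theorem sq_of_ker {g : LL u} (h : e (QuotientGroup.mk g) = 1) : g ^ 2 = 1 := by
  rcases (ker_cases hA h2 e).1 h with rfl | rfl
  · exact one_pow 2
  · apply Subtype.ext
    show u ^ 2 = 1
    rw [pow_two, ta_sq hA]

theorem e_pow (g : LL u) (n : ℕ) : e (QuotientGroup.mk (g ^ n)) = e (QuotientGroup.mk g) ^ n := by
  rw [QuotientGroup.mk_pow, map_pow]

theorem e_mul (g g' : LL u) : e (QuotientGroup.mk (g * g')) = e (QuotientGroup.mk g) * e (QuotientGroup.mk g') := by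
  rw [QuotientGroup.mk_mul, map_mul]

theorem e_inv (g : LL u) : e (QuotientGroup.mk g⁻¹) = (e (QuotientGroup.mk g))⁻¹ := by
  rw [QuotientGroup.mk_inv, map_inv]

variable [Finite B] {K : ℕ}

/-- **Subgroups of `C(s) ∩ C(w)`**, `w` an involution. -/
theorem sub_le_cover (hB : Spor.IsoB B) {x : LL u} (hx : orderOf x = 3) (hF : ¬ FiType u (x : Mon)) {w : B}
    (hw : orderOf w = 2) {H : Subgroup B} (hHs : H ≤ centralizer ({e (QuotientGroup.mk x)} : Set B))
    (hHu : H ≤ centralizer ({w} : Set B)) (hA : LThreeB.Row.TA u) (h2 : Nat.card ↥(center (LL u)) = 2) :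
    Nat.card ↥H ≤ 806215680 := by
  have h10 : ¬ 3 ^ 10 ∣ Nat.card ↥H := fun h3 => BInv.not_three_B hB hw (h3.trans (Subgroup.card_dvd_of_le hHu))
  have hd := Subgroup.card_dvd_of_le hHs
  rcases BThree.cover_three hB hA h2 e hx with (h1 | h1 | h1) | h1
  · have h2 : Nat.card ↥H ∣ 3 ^ 13 * 40960 := (hd.trans h1).trans (by norm_num)
    exact (Nat.le_of_dvd (by norm_num) (BThree.dvd_nine h2 h10)).trans (by norm_num)
  · have h2 : Nat.card ↥H ∣ 3 ^ 13 * 17920 := (hd.trans h1).trans (by norm_num)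
    exact (Nat.le_of_dvd (by norm_num) (BThree.dvd_nine h2 h10)).trans (by norm_num)
  · exact (Nat.le_of_dvd (by norm_num) (hd.trans h1)).trans (by norm_num)
  · exact absurd h1 hF

/-- **The frame of 2.B.** -/
theorem frame (hB : Spor.IsoB B) (hA : LThreeB.Row.TA u) (h2 : Nat.card ↥(center (LL u)) = 2)
    (e : LL u ⧸ center (LL u) ≃* B) (hK : 806215680 ≤ K)
    (hT : ∀ g : LL u, Nat.card ↥(centralizer ({e (QuotientGroup.mk g)} : Set B)) ≤ K → IsC g)
    (h5 : ∀ y : B, (orderOf y).Prime → 5 ≤ orderOf y → Nat.card ↥(centralizer ({y} : Set B)) ≤ K)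
    (hA3 : ∀ (x t : LL u) (n : ℕ), orderOf x = 3 → FiType u (x : Mon) → t ^ 2 ^ n = 1 → t * x = x * t →
      IsC (t * x) ∨ Nat.card ↥(centralizer ({e (QuotientGroup.mk (t * x))} : Set B)) ≤ K)
    (hTwo : ∀ (g : LL u) (k : ℕ), g ^ 2 ^ k = 1 → IsC g)
    (hThree : ∀ x : LL u, orderOf x = 3 → K < Nat.card ↥(centralizer ({e (QuotientGroup.mk x)} : Set B)) →
      ¬ FiType u (x : Mon) → IsC x ∧ IsC (x * zu u))
    (h9 : ∀ y : B, orderOf y = 9 → Nat.card ↥(centralizer ({y} : Set B)) ≤ K) : AllC (LL u) := by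
  have hfM : Finite Mon := MThirteen.Row.finite
  intro g
  obtain ⟨y, hy⟩ : ∃ y, y = e (QuotientGroup.mk g) := ⟨_, rfl⟩
  have h0 : orderOf y ≠ 0 := (orderOf_pos y).ne'
  by_cases hp : ∃ p, p.Prime ∧ p ∣ orderOf y ∧ 5 ≤ p
  · obtain ⟨p, hp, hpg, hp5⟩ := hp
    have ho : orderOf (y ^ (orderOf y / p)) = p := orderOf_pow_orderOf_div h0 hpg
    refine hT g ?_
    rw [← hy]
    exact (BFrame.card_cent_le_pow y _).trans (h5 _ (by rw [ho]; exact hp) (by rw [ho]; exact hp5))
  push Not at hp
  obtain ⟨a, b, hab⟩ := BFrame.exists_two_three h0 hp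
  -- `g ^ (2 * orderOf y) = 1`
  have hg1 : g ^ (2 ^ (a + 1) * 3 ^ b) = 1 := by
    have h3 : e (QuotientGroup.mk (g ^ (2 ^ a * 3 ^ b))) = 1 := by
      rw [e_pow, ← hy, ← hab, pow_orderOf_eq_one]
    have h4 := sq_of_ker hA h2 e h3
    rw [← pow_mul] at h4
    rw [show 2 ^ (a + 1) * 3 ^ b = 2 ^ a * 3 ^ b * 2 by ring]
    exact h4
  rcases Nat.eq_zero_or_pos b with rfl | hb
  · rw [pow_zero, mul_one] at hg1
    exact hTwo g _ hg1
  obtain ⟨b, rfl⟩ : ∃ b', b = b' + 1 := ⟨b - 1, by omega⟩
  -- the element of order three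
  obtain ⟨x, hx⟩ : ∃ x, x = g ^ (2 ^ (a + 1) * 3 ^ b) := ⟨_, rfl⟩
  have hex : e (QuotientGroup.mk x) = y ^ (2 ^ (a + 1) * 3 ^ b) := by rw [hx, e_pow, ← hy]
  have hx3 : x ^ 3 = 1 := by
    rw [hx, ← pow_mul, ← hg1]
    congr 1
    ring
  have hexne : e (QuotientGroup.mk x) ≠ 1 := by
    rw [hex]
    intro h3
    have h4 := orderOf_dvd_of_pow_eq_one h3
    rw [hab] at h4
    have h5 : 3 ∣ 2 ^ (a + 1) := by
      have h6 : 2 ^ a * 3 ^ (b + 1) = 3 ^ b * (2 ^ a * 3) := by ring
      have h7 : 2 ^ (a + 1) * 3 ^ b = 3 ^ b * 2 ^ (a + 1) := by ring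
      rw [h6, h7] at h4
      have h8 := Nat.dvd_of_mul_dvd_mul_left (by positivity) h4
      exact (Dvd.intro_left (2 ^ a) rfl).trans h8
    have h6 := Nat.prime_three.dvd_of_dvd_pow h5
    revert h6
    decide
  have hxo : orderOf x = 3 := by
    have : Fact (Nat.Prime 3) := ⟨Nat.prime_three⟩
    refine orderOf_eq_prime hx3 ?_
    rintro rfl
    exact hexne (by rw [QuotientGroup.mk_one, map_one])
  have hcent : Nat.card ↥(centralizer ({y} : Set B)) ≤ Nat.card ↥(centralizer ({e (QuotientGroup.mk x)} : Set B)) := by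
    rw [hex]
    exact BFrame.card_cent_le_pow y _
  by_cases hF : FiType u (x : Mon)
  · -- type 3A
    have hb0 : b = 0 := by
      by_contra hcon
      obtain ⟨b', rfl⟩ : ∃ b', b = b' + 1 := ⟨b - 1, by omega⟩
      refine no_cube hA h2 e hxo hF (y ^ (2 ^ (a + 1) * 3 ^ b')) ?_
      rw [hex, ← pow_mul]
      congr 1
      ring
    subst hb0
    rw [pow_zero, mul_one] at hx
    rw [zero_add, pow_one] at hg1
    obtain ⟨n, hn⟩ : ∃ n, n = 2 ^ (a + 1) := ⟨_, rfl⟩
    rw [← hn] at hx hg1
    have hcop : Nat.Coprime n 3 := by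
      rw [hn]
      exact Nat.Coprime.pow_left _ (by norm_num)
    have hbez : ((n : ℕ) : ℤ) * Nat.gcdA n 3 + ((3 : ℕ) : ℤ) * Nat.gcdB n 3 = 1 := by
      have := Nat.gcd_eq_gcd_ab n 3
      rw [hcop] at this
      exact_mod_cast this.symm
    set α := Nat.gcdA n 3 with hα
    set β := Nat.gcdB n 3 with hβ
    obtain ⟨t, ht⟩ : ∃ t, t = g ^ (((3 : ℕ) : ℤ) * β) := ⟨_, rfl⟩
    have hgt : g = t * x ^ α := by
      have e1 : x ^ α = g ^ (((n : ℕ) : ℤ) * α) := by rw [hx, ← zpow_natCast, ← zpow_mul]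
      rw [e1, ht, ← zpow_add, add_comm, hbez, zpow_one]
    have ht1 : t ^ 2 ^ (a + 1) = 1 := by
      rw [← hn, ht, ← zpow_natCast, ← zpow_mul]
      have e1 : ((3 : ℕ) : ℤ) * β * ((n : ℕ) : ℤ) = ((n * 3 : ℕ) : ℤ) * β := by
        push_cast
        ring
      rw [e1, zpow_mul, zpow_natCast, hg1, one_zpow]
    have htx : t * x = x * t := by
      rw [ht, hx]
      exact ((Commute.refl g).zpow_left _).pow_right _
    have hcase : x ^ α = x ∨ x ^ α = x⁻¹ ∨ x ^ α = 1 := by
      have h1 : x ^ α = x ^ (α % 3) := by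
        rw [← zpow_mod_orderOf, hxo]
        rfl
      have h2 : α % 3 = 0 ∨ α % 3 = 1 ∨ α % 3 = 2 := by omega
      have h3 : x ^ (3 : ℤ) = 1 := by exact_mod_cast hx3
      rcases h2 with h2 | h2 | h2
      · right; right
        rw [h1, h2, zpow_zero]
      · left
        rw [h1, h2, zpow_one]
      · right; left
        rw [h1, h2]
        apply eq_inv_of_mul_eq_one_left
        rw [← h3]
        group
    rcases hcase with h1 | h1 | h1
    · rw [h1] at hgt
      rw [hgt]
      rcases hA3 x t (a + 1) hxo hF ht1 htx with h3 | h3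
      · exact h3
      · exact hT _ h3
    · rw [h1] at hgt
      have hgi : g⁻¹ = t⁻¹ * x := by
        rw [hgt, mul_inv_rev, inv_inv]
        exact (show Commute x t from htx.symm).inv_right
      have h4 : IsC g⁻¹ := by
        rw [hgi]
        rcases hA3 x t⁻¹ (a + 1) hxo hF (by rw [inv_pow, ht1, inv_one])
          (show Commute t x from htx).inv_left with h3 | h3
        · exact h3
        · exact hT _ h3
      have := h4.inv
      rwa [inv_inv] at this
    · exfalso
      rw [h1, mul_one] at hgt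
      have h3 : x = 1 := by rw [hx, hgt, hn, ht1]
      rw [h3, orderOf_one] at hxo
      norm_num at hxo
  · rcases Nat.eq_zero_or_pos a with rfl | ha
    · rcases Nat.eq_zero_or_pos b with rfl | hb'
      · -- order three
        have hx2 : x = g ^ 2 := by rw [hx]; norm_num
        have hg6 : (g ^ 3) ^ 2 = 1 := by
          rw [← pow_mul, ← hg1]
          norm_num
        have hker : e (QuotientGroup.mk (g ^ 3)) = 1 := by
          rw [e_pow, ← hy]
          have : orderOf y = 3 := by rw [hab]; norm_num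
          rw [← this, pow_orderOf_eq_one]
        have hxi : x⁻¹ = g * (g ^ 3)⁻¹ := by
          rw [hx2]
          group
        -- `g⁻¹ = x` or `g⁻¹ = x u`
        have hgi : g⁻¹ = x * (g ^ 3)⁻¹ := by
          rw [hx2]
          group
        have hgi' : g⁻¹ = x ∨ g⁻¹ = x * zu u := by
          have h3 : (g ^ 3)⁻¹ = g ^ 3 := inv_eq_of_mul_eq_one_left (by rw [← pow_two, hg6])
          rw [hgi, h3]
          rcases (ker_cases hA h2 e).1 hker with h4 | h4
          · left
            rw [h4, mul_one]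
          · right
            rw [h4]
        have hIs : IsC x ∧ IsC (x * zu u) := by
          rcases Nat.lt_or_ge K (Nat.card ↥(centralizer ({e (QuotientGroup.mk x)} : Set B))) with h3 | h3
          · exact hThree x hxo h3 hF
          · refine ⟨hT x h3, hT _ ?_⟩
            rw [e_mul, (ker_cases hA h2 e).2 (Or.inr rfl), mul_one]
            exact h3
        have h4 : IsC g⁻¹ := by
          rcases hgi' with h3 | h3
          · rw [h3]; exact hIs.1
          · rw [h3]; exact hIs.2
        have := h4.inv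
        rwa [inv_inv] at this
      · -- order divisible by nine
        have h3 : orderOf y = 9 * 3 ^ (b - 1) := by
          rw [hab, pow_zero, one_mul]
          obtain ⟨b', rfl⟩ : ∃ b', b = b' + 1 := ⟨b - 1, by omega⟩
          rw [show b' + 1 - 1 = b' by omega]
          ring
        have h9d : 9 ∣ orderOf y := by rw [h3]; exact Dvd.intro _ rfl
        have ho : orderOf (y ^ (orderOf y / 9)) = 9 := orderOf_pow_orderOf_div h0 h9d
        refine hT g ?_
        rw [← hy]
        exact (BFrame.card_cent_le_pow y _).trans (h9 _ ho)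
    · -- order divisible by six
      have h2d : 2 ∣ orderOf y := by
        rw [hab]
        exact (dvd_pow_self 2 ha.ne').mul_right _
      refine hT g ?_
      rw [← hy]
      refine (sub_le_cover e hB hxo hF (w := y ^ (orderOf y / 2)) ?_ ?_ ?_ hA h2).trans hK
      · rw [orderOf_pow_orderOf_div h0 h2d]
      · intro c hc
        rw [mem_centralizer_singleton_iff] at hc ⊢
        rw [hex]
        exact ((show Commute c y from hc).pow_right _).eq
      · intro c hc
        rw [mem_centralizer_singleton_iff] at hc ⊢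
        exact ((show Commute c y from hc).pow_right _).eq

end

end Cfsg.Agent.H494.TwoB
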