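import Cfsg.Agent.H494.TwoB.Suz
import Cfsg.Agent.H480.Ore.BFiType

/-!
# The elements of order nine of the Baby Monster (helper494)

* `rad_nine` : in the situation `Rad 3 z x N f` over `Suz`, `t` an involution, no `y` with `y ^ 3 = x` centralizes `C(t)`;
* `nine_le` : **`|C_B(y)| ≤ 32651735040`** for `y` of order nine.
-/

set_option autoImplicit false
set_option maxRecDepth 100000

namespace Cfsg.Agent.H494.TwoB

open Cfsg Cfsg.Agent Cfsg.Agent.MonsterX Cfsg.Agent.MonsterX.InstData Cfsg.Agent.MonsterX.MainPack Cfsg.Agent.MonsterU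
open Cfsg.Agent.MonsterP Cfsg.Agent.MonsterN Cfsg.Agent.LThree Cfsg.Agent.LThreeMB
open Cfsg.Agent.MonsterX.MainBasic Cfsg.Agent.MonsterX.MainSimple Cfsg.Agent.MonsterX.Model
open Cfsg.Agent.LThreeB (XT mem_XT centXT centXT' conjXT)
open Subgroup (centralizer mem_centralizer_singleton_iff center card_dvd_of_le zpowers)
open Cfsg.Spor (Co1)
open Cfsg.Agent.H979.BAdj Cfsg.Agent.H979.CovLift Cfsg.Agent.H979.OddB
open Cfsg.Agent.H630.NH Cfsg.Agent.H241.NH Cfsg.Agent.H630.Baby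
open Cfsg.Agent.H844.Ore
open Cfsg.Agent.BpSpor.M5

universe u v

section abs

/-- conjugation by an element of `C(z)` is trivial or multiplies `τ` by `z` -/
theorem conj_tau {D : Type u} [Group D] {z x : D} {N : Subgroup D} {A : Type v} [Group A]
    {f : ↥(centralizer ({z} : Set D)) →* A} (h : Rad 3 z x N f) {τ : D} (hτ : τ * τ = 1) (hτz : τ * z = z * τ)
    {c : ↥(centralizer ({z} : Set D))}
    (hc : f c * f ⟨τ, mem_centralizer_singleton_iff.2 hτz⟩ = f ⟨τ, mem_centralizer_singleton_iff.2 hτz⟩ * f c) :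
    (c : D) * τ * (c : D)⁻¹ = τ ∨ (c : D) * τ * (c : D)⁻¹ = τ * z := by
  have hp : Fact (Nat.Prime 3) := ⟨Nat.prime_three⟩
  have h1 : f (c * ⟨τ, mem_centralizer_singleton_iff.2 hτz⟩ * c⁻¹ * ⟨τ, mem_centralizer_singleton_iff.2 hτz⟩⁻¹) = 1 := by
    rw [map_mul, map_mul, map_mul, map_inv, map_inv, hc, mul_inv_cancel_right, mul_inv_cancel]
  have h5 : ((c : D) * τ * (c : D)⁻¹) * ((c : D) * τ * (c : D)⁻¹) = 1 := by
    calc (c : D) * τ * (c : D)⁻¹ * ((c : D) * τ * (c : D)⁻¹) = (c : D) * (τ * τ) * (c : D)⁻¹ := by group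
      _ = 1 := by rw [hτ]; group
  have h6 : ∀ i : ℤ, ∀ w : D, w * w = 1 → x ^ i * w * (x ^ i * w) = 1 → x ^ i = 1 := by
    intro i w hw h7
    apply h.sq_one (by norm_num)
    calc x ^ i * x ^ i = x ^ i * x ^ i * (w * w) := by rw [hw, mul_one]
      _ = x ^ i * (x ^ i * w) * w := by group
      _ = x ^ i * (w * x ^ i) * w := by rw [h.xzc i w]
      _ = x ^ i * w * (x ^ i * w) := by group
      _ = 1 := h7
  obtain ⟨i, hi | hi⟩ := h.ker _ h1
  · left
    have h3 : (c : D) * τ * (c : D)⁻¹ * τ⁻¹ = x ^ i := hi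
    have h4 : (c : D) * τ * (c : D)⁻¹ = x ^ i * τ := by rw [← h3]; group
    rw [h4] at h5
    rw [h4, h6 i τ hτ h5, one_mul]
  · right
    have h3 : (c : D) * τ * (c : D)⁻¹ * τ⁻¹ = x ^ i * z := hi
    have h4 : (c : D) * τ * (c : D)⁻¹ = x ^ i * (z * τ) := by
      calc (c : D) * τ * (c : D)⁻¹ = (c : D) * τ * (c : D)⁻¹ * τ⁻¹ * τ := by group
        _ = _ := by rw [h3, mul_assoc]
    have hzt : z * τ * (z * τ) = 1 := by
      calc z * τ * (z * τ) = z * (τ * z) * τ := by group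
        _ = z * (z * τ) * τ := by rw [hτz]
        _ = (z * z) * (τ * τ) := by group
        _ = 1 := by rw [h.zz, hτ, one_mul]
    rw [h4] at h5
    rw [h4, h6 i (z * τ) hzt h5, one_mul, hτz]

/-- **No `y` with `y ^ 3 = x` centralizes `C(t)`.** -/
theorem rad_nine {D : Type u} [Group D] [Finite D] {z x : D} {N : Subgroup D} {A : Type v} [Group A] [Finite A]
    [IsSimpleGroup A] {f : ↥(centralizer ({z} : Set D)) →* A} (hns : ¬ Group.IsSolvable A) (hN : Rad 3 z x N f)
    (hNd : Nat.card ↥N ∣ 3 ^ 13) (hS : Spor.IsoSuz A) {t : D} (htt : t * t = 1) (ht1 : t ≠ 1)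
    (htz : ∀ d : D, d * t * d⁻¹ ≠ z) (hc : 2 ^ 14 ∣ Nat.card ↥(centralizer ({t} : Set D))) {y : D} (hy : y ^ 3 = x)
    (hyt : ∀ g : D, g * t = t * g → g * y = y * g) : False := by
  have hp : Fact (Nat.Prime 3) := ⟨Nat.prime_three⟩
  obtain ⟨d, hd⟩ := BThree.exists_conj_mem (centralizer ({z} : Set D)) (BThree.index_odd hN) htt
  obtain ⟨τ, hτ⟩ : ∃ τ, d * t * d⁻¹ = τ := ⟨_, rfl⟩
  rw [hτ] at hd
  have hτz : τ * z = z * τ := mem_centralizer_singleton_iff.1 hd
  have hττ : τ * τ = 1 := by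
    rw [← hτ]
    calc d * t * d⁻¹ * (d * t * d⁻¹) = d * (t * t) * d⁻¹ := by group
      _ = 1 := by rw [htt]; group
  have hτ1 : τ ≠ 1 := by
    rw [← hτ]
    intro h1
    rw [conj_eq_one_iff] at h1
    exact ht1 h1
  have hτne : τ ≠ z := by
    rw [← hτ]
    exact htz d
  have hcc : Nat.card ↥(centralizer ({t} : Set D)) = Nat.card ↥(centralizer ({τ} : Set D)) :=
    MThirteen.card_cent_conj (isConj_iff.2 ⟨d, hτ⟩)
  rw [hcc] at hc
  -- the conjugate of `y`
  obtain ⟨w, hw⟩ : ∃ w, w = d * y * d⁻¹ := ⟨_, rfl⟩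
  have hw3 : w ^ 3 = x := by
    rw [hw, conj_pow, hy, hN.xc d, mul_inv_cancel_right]
  have hwτ : ∀ g : D, g * τ = τ * g → g * w = w * g := by
    intro g hg
    have h1 : (d⁻¹ * g * d) * t = t * (d⁻¹ * g * d) := by
      rw [← hτ] at hg
      calc d⁻¹ * g * d * t = d⁻¹ * (g * (d * t * d⁻¹)) * d := by group
        _ = d⁻¹ * (d * t * d⁻¹ * g) * d := by rw [hg]
        _ = _ := by group
    have h2 := hyt _ h1
    rw [hw]
    calc g * (d * y * d⁻¹) = d * ((d⁻¹ * g * d) * y) * d⁻¹ := by group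
      _ = d * (y * (d⁻¹ * g * d)) * d⁻¹ := by rw [h2]
      _ = _ := by group
  have hzw : w * z = z * w := (hwτ z hτz.symm).symm
  have hτw : τ * w = w * τ := hwτ τ rfl
  obtain ⟨m, hm1, hm2, hm3⟩ := BAbs.card_cent hns hN hττ hτz
  rw [hm1] at hc
  -- the image of `τ`
  obtain ⟨v, hv⟩ : ∃ v, f ⟨τ, mem_centralizer_singleton_iff.2 hτz⟩ = v := ⟨_, rfl⟩
  rw [hv] at hm2 hm3
  have hvv : v * v = 1 := by
    rw [← hv, ← map_mul]
    have h1 : (⟨τ, mem_centralizer_singleton_iff.2 hτz⟩ : ↥(centralizer ({z} : Set D))) *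
        ⟨τ, mem_centralizer_singleton_iff.2 hτz⟩ = 1 := Subtype.ext hττ
    rw [h1, map_one]
  have hv1 : v ≠ 1 := by
    intro h1
    rw [← hv] at h1
    obtain ⟨i, hi | hi⟩ := hN.ker _ h1
    · have h2 : τ = x ^ i := hi
      have h3 := hN.sq_one (by norm_num) (i := i) (by rw [← h2, hττ])
      rw [h3] at h2
      exact hτ1 h2
    · have h2 : τ = x ^ i * z := hi
      have h4 : x ^ i * x ^ i = 1 := by
        have h5 := hN.xzc i z
        calc x ^ i * x ^ i = x ^ i * x ^ i * (z * z) := by rw [hN.zz, mul_one]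
          _ = x ^ i * (x ^ i * z) * z := by group
          _ = x ^ i * (z * x ^ i) * z := by rw [h5]
          _ = (x ^ i * z) * (x ^ i * z) := by group
          _ = 1 := by rw [← h2, hττ]
      rw [hN.sq_one (by norm_num) h4, one_mul] at h2
      exact hτne h2
  obtain ⟨k, hk⟩ : ∃ k, Nat.card ↥(N ⊓ centralizer ({τ} : Set D) : Subgroup D) = k := ⟨_, rfl⟩
  have hkd : k ∣ 3 ^ 13 := hk ▸ (card_dvd_of_le inf_le_left).trans hNd
  rw [hk] at hc
  have hkc : Nat.Coprime (2 ^ 14) k := (Nat.Coprime.pow 14 13 (by norm_num : Nat.Coprime 2 3)).coprime_dvd_right hkd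
  have hm4 : 2 ^ 14 ∣ 2 * m := Nat.Coprime.dvd_of_dvd_mul_left hkc hc
  have hcA : Nat.card ↥(centralizer ({v} : Set A)) = 3317760 := by
    rcases BThree.suz_card hS v hvv hv1 with h5 | h5
    · exact h5
    · exfalso
      rw [h5] at hm2
      have h6 := hm4.trans (mul_dvd_mul_left 2 hm2)
      norm_num at h6
  -- the image of `w`
  have memz : ∀ g : D, g * z = z * g → g ∈ centralizer ({z} : Set D) := fun g hg => mem_centralizer_singleton_iff.2 hg
  obtain ⟨ω, hω⟩ : ∃ ω, f ⟨w, memz w hzw⟩ = ω := ⟨_, rfl⟩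
  have fx : f ⟨x, mem_centralizer_singleton_iff.2 (hN.xc z).symm⟩ = 1 :=
    hN.f_central hns fun g => Subtype.ext (hN.xc g)
  have hω3 : ω ^ 3 = 1 := by
    rw [← hω, ← map_pow, ← fx]
    congr 1
    exact Subtype.ext hw3
  let J : Subgroup A := (((centralizer ({τ} : Set D)).subgroupOf (centralizer ({z} : Set D)))).map f
  have hω1 : ω = 1 := by
    refine suz_triv hS hvv hv1 hcA hω3 ?_ J ?_ ?_
    · rw [← hω, ← hv, ← map_mul, ← map_mul]
      congr 1
      exact Subtype.ext hτw.symm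
    · rintro _ ⟨c, hc', rfl⟩
      have h7 : (c : D) * τ = τ * c := mem_centralizer_singleton_iff.1 (Subgroup.mem_subgroupOf.1 hc')
      rw [← hω, ← map_mul, ← map_mul]
      congr 1
      exact Subtype.ext (hwτ c h7)
    · intro a b ha hb haJ hbJ
      obtain ⟨c, rfl⟩ := hN.surj a
      obtain ⟨e, rfl⟩ := hN.surj b
      rw [← hv] at ha hb
      have hcz : (c : D) * z = z * c := mem_centralizer_singleton_iff.1 c.2
      rcases conj_tau hN hττ hτz ha with h7 | h7
      · exact absurd ⟨c, Subgroup.mem_subgroupOf.2 (mem_centralizer_singleton_iff.2 (mul_inv_eq_iff_eq_mul.1 h7)), rfl⟩ haJ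
      rcases conj_tau hN hττ hτz hb with h8 | h8
      · exact absurd ⟨e, Subgroup.mem_subgroupOf.2 (mem_centralizer_singleton_iff.2 (mul_inv_eq_iff_eq_mul.1 h8)), rfl⟩ hbJ
      refine ⟨c * e, Subgroup.mem_subgroupOf.2 (mem_centralizer_singleton_iff.2 (mul_inv_eq_iff_eq_mul.1 ?_)),
        map_mul f c e⟩
      show (c : D) * e * τ * ((c : D) * e)⁻¹ = τ
      calc (c : D) * e * τ * ((c : D) * e)⁻¹ = c * (e * τ * (e : D)⁻¹) * (c : D)⁻¹ := by group
        _ = c * τ * (z * (c : D)⁻¹) := by rw [h8]; group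
        _ = c * τ * ((c : D)⁻¹ * (c * z) * (c : D)⁻¹) := by group
        _ = c * τ * ((c : D)⁻¹ * (z * c) * (c : D)⁻¹) := by rw [hcz]
        _ = (c * τ * (c : D)⁻¹) * z := by group
        _ = τ * (z * z) := by rw [h7]; group
        _ = τ := by rw [hN.zz, mul_one]
  rw [← hω] at hω1
  have hx2 : x ^ 2 = 1 → False := by
    intro h7
    have h8 := orderOf_dvd_of_pow_eq_one h7
    rw [hN.ox] at h8
    norm_num at h8
  have hx3 : x ^ 3 = 1 := by rw [← hN.ox, pow_orderOf_eq_one]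
  have hxi : ∀ i : ℤ, (x ^ i) ^ 3 = 1 := fun i => by
    rw [← zpow_natCast, ← zpow_mul, mul_comm, zpow_mul, zpow_natCast, hx3, one_zpow]
  obtain ⟨i, hi | hi⟩ := hN.ker _ hω1
  · have h7 : w = x ^ i := hi
    rw [h7, hxi i] at hw3
    exact hx2 (by rw [← hw3, one_pow])
  · have h7 : w = x ^ i * z := hi
    have h8 : w ^ 3 = z := by
      have h9 : Commute (x ^ i) z := (hN.xzc i z).symm
      have h10 : z ^ 3 = z := by rw [pow_succ, pow_two, hN.zz, one_mul]
      rw [h7, h9.mul_pow, hxi i, one_mul, h10]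
    rw [hw3] at h8
    exact hx2 (by rw [h8, pow_two, hN.zz])

end abs

/-! ### The Monster -/

/-- **Fixed rank 0.** -/
theorem zero_nine {x : centralizer ({KDone.K.z} : Set Mon)} (hx : orderOf x = 3)
    (hfr : fr (KChart.pi LThreeB.Row.cent x) = 1) {t : Mon} (hto : orderOf t = 2)
    (htz : ∀ g : Mon, g * t * g⁻¹ ≠ KDone.K.z) (htx : t * (x : Mon) = x * t)
    (hc : 2 ^ 14 ∣ Nat.card ↥(XT (x : Mon) t)) {y : Mon} (hy : y ^ 3 = x)
    (hyt : ∀ g : Mon, g * t = t * g → g * (x : Mon) = x * g → g * y = y * g) : False := by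
  have hfin : Finite Mon := MThirteen.Row.finite
  have h := chart
  have hp : Fact (Nat.Prime 3) := ⟨Nat.prime_three⟩
  have htr := MThirteen.Row.trNe
  have hS : Spor.IsoSuz (XX (KChart.pi LThreeB.Row.cent x)) := CoOneFin.coOne.suz _ (orderOf_pi h hx) hfr
  have hcS : Nat.card (XX (KChart.pi LThreeB.Row.cent x)) = 448345497600 := by
    obtain ⟨e⟩ := hS
    rw [Nat.card_congr e.toEquiv]
    exact SporadicRecognition.SuzOrder.card_Suz
  have hs : IsSimpleGroup (XX (KChart.pi LThreeB.Row.cent x)) := by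
    obtain ⟨e⟩ := hS
    exact (MulEquiv.isSimpleGroup_congr e).2 Cfsg.Agent.S1694.result.1
  have hns : ¬ Group.IsSolvable (XX (KChart.pi LThreeB.Row.cent x)) :=
    H199.NSmMon.not_solvable hs hcS (by norm_num) (by norm_num)
  have hfS : Finite (XX (KChart.pi LThreeB.Row.cent x)) := Nat.finite_of_card_ne_zero (by rw [hcS]; norm_num)
  obtain ⟨N, hN⟩ := BpSpor.M5.exists_rad h (by norm_num) hx hfr (fun d hd hc => isolated h htr hx hfr d hd hc)
    hs (by rw [hcS]; decide)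
  -- the order of `N`
  have hNd : Nat.card ↥N ∣ 3 ^ 13 := by
    obtain ⟨m, hm, hcm⟩ := hN.card_N_mul hns
    have h1 := H199.AbMon.three_zero' hx hfr
    have h2 : Nat.card ↥N * (448345497600 * m) ∣ 3 ^ 13 * (448345497600 * 2) := by
      rw [hcS] at hcm
      rw [← hcm]
      exact h1
    have h3 : Nat.card ↥N ∣ 3 ^ 13 * 2 := by
      refine Nat.dvd_of_mul_dvd_mul_right (show 0 < 448345497600 by norm_num) ?_
      refine (Dvd.intro m (by ring)).trans (h2.trans (by norm_num))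
    refine Nat.Coprime.dvd_of_dvd_mul_right ?_ h3
    exact Nat.coprime_two_right.2 hN.oN
  have hXT : Nat.card ↥(XT (x : Mon) t) = Nat.card ↥(centralizer
      ({⟨t, mem_centralizer_singleton_iff.2 htx⟩} : Set ↥(centralizer ({(x : Mon)} : Set Mon)))) :=
    (Nat.card_congr (centXT' (⟨t, mem_centralizer_singleton_iff.2 htx⟩ : ↥(centralizer ({(x : Mon)} : Set Mon)))).toEquiv).symm
  rw [hXT] at hc
  have hyx : y * (x : Mon) = x * y := by rw [← hy]; exact (Commute.refl y).pow_right 3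
  refine rad_nine hns hN hNd hS (t := ⟨t, mem_centralizer_singleton_iff.2 htx⟩) (Subtype.ext ?_) ?_ ?_ hc
    (y := ⟨y, mem_centralizer_singleton_iff.2 hyx⟩) (Subtype.ext hy) ?_
  · show t * t = 1
    rw [← pow_two, ← hto, pow_orderOf_eq_one]
  · intro h1
    have h2 : t = 1 := congrArg Subtype.val h1
    rw [h2, orderOf_one] at hto
    omega
  · intro d h1
    exact htz (d : Mon) (congrArg Subtype.val h1)
  · intro g hg
    exact Subtype.ext (hyt g (congrArg Subtype.val hg) (mem_centralizer_singleton_iff.1 g.2))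

/-- **`x = y ^ 3` of order 3 in the Monster commuting with `t` of class 2A, `y` centralizes `C(x) ∩ C(t)`.** -/
theorem mon_nine {x t y : Mon} (hx : orderOf x = 3) (ht : LThreeB.Row.TA t) (hxt : x * t = t * x)
    (hc : 2 ^ 14 ∣ Nat.card ↥(XT x t)) (h13 : 3 ^ 13 ∣ Nat.card ↥(XT x t)) (hy : y ^ 3 = x)
    (hyt : ∀ g : Mon, g * t = t * g → g * x = x * g → g * y = y * g) : FiType t x := by
  have hfin : Finite Mon := MThirteen.Row.finite
  have hsim : IsSimpleGroup Mon := MThirteen.Row.simple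
  have h := chart
  have I := CoOneFin.coOne
  have hto := MThirteen.Row.ta_order ht
  have htt : t * t = 1 := by rw [← pow_two, ← hto, pow_orderOf_eq_one]
  have ht1 : t ≠ 1 := by
    rintro rfl
    rw [orderOf_one] at hto
    omega
  have htz : ¬ IsConj KDone.K.z t := by
    intro h1
    obtain ⟨c, hc⟩ := isConj_iff.1 h1
    exact MThirteen.Row.ta_ne ht c⁻¹ (by rw [← hc]; group)
  obtain ⟨g, hg, -⟩ := LThreeM.FiRow.exists_z_in (x := x) (v := t) (by rw [← hx, pow_orderOf_eq_one]) ht hxt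
  have h1 : (g⁻¹ * x * g⁻¹⁻¹) * KDone.K.z = KDone.K.z * (g⁻¹ * x * g⁻¹⁻¹) := by
    calc (g⁻¹ * x * g⁻¹⁻¹) * KDone.K.z = g⁻¹ * (x * (g * KDone.K.z * g⁻¹)) * g := by group
      _ = g⁻¹ * ((g * KDone.K.z * g⁻¹) * x) * g := by rw [hg]
      _ = KDone.K.z * (g⁻¹ * x * g⁻¹⁻¹) := by group
  have hXT := card_XT_conj g⁻¹ x t
  obtain ⟨x', hyx⟩ : ∃ y : centralizer ({KDone.K.z} : Set Mon), (y : Mon) = g⁻¹ * x * g⁻¹⁻¹ :=
    ⟨⟨g⁻¹ * x * g⁻¹⁻¹, mem_centralizer_singleton_iff.2 h1⟩, rfl⟩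
  have hx' : orderOf x' = 3 := by
    rw [← Subgroup.orderOf_coe, hyx, ← hx]
    exact MulEquiv.orderOf_eq (MulAut.conj g⁻¹) x
  have hx'' : orderOf (x' : Mon) = 3 := by rw [Subgroup.orderOf_coe, hx']
  -- conjugation of the hypotheses
  have hcj : ∀ k : Mon, (k * y * k⁻¹) ^ 3 = k * x * k⁻¹ := fun k => by rw [conj_pow, hy]
  have hcj2 : ∀ k : Mon, ∀ g : Mon, g * (k * t * k⁻¹) = (k * t * k⁻¹) * g → g * (k * x * k⁻¹) = (k * x * k⁻¹) * g →
      g * (k * y * k⁻¹) = (k * y * k⁻¹) * g := by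
    intro k g h3 h4
    have key : ∀ a : Mon, g * (k * a * k⁻¹) = (k * a * k⁻¹) * g → (k⁻¹ * g * k) * a = a * (k⁻¹ * g * k) := by
      intro a h5
      calc (k⁻¹ * g * k) * a = k⁻¹ * (g * (k * a * k⁻¹)) * k := by group
        _ = k⁻¹ * ((k * a * k⁻¹) * g) * k := by rw [h5]
        _ = _ := by group
    have h5 := hyt _ (key t h3) (key x h4)
    calc g * (k * y * k⁻¹) = k * ((k⁻¹ * g * k) * y) * k⁻¹ := by group
      _ = k * (y * (k⁻¹ * g * k)) * k⁻¹ := by rw [h5]
      _ = _ := by group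
  set t' : Mon := g⁻¹ * t * g⁻¹⁻¹ with ht'
  have hto' : orderOf t' = 2 := by
    rw [← hto]
    exact MulEquiv.orderOf_eq (MulAut.conj g⁻¹) t
  have htz' : ∀ g' : Mon, g' * t' * g'⁻¹ ≠ KDone.K.z := by
    intro g' hg'
    refine MThirteen.Row.ta_ne ht (g' * g⁻¹) ?_
    rw [← hg', ht']
    group
  have hyt' : (x' : Mon) * t' = t' * x' := by
    rw [hyx]
    exact LThreeB.conj_comm' hxt
  rw [← hyx] at hXT
  rw [← hXT] at hc h13
  rcases I.ranks (KChart.pi LThreeB.Row.cent x') (orderOf_pi h hx') with h2 | h2 | h2 | h2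
  · exfalso
    refine zero_nine hx' h2 hto' htz' hyt'.symm hc (y := g⁻¹ * y * g⁻¹⁻¹) (by rw [hyx]; exact hcj g⁻¹) ?_
    intro k hk1 hk2
    exact hcj2 g⁻¹ k hk1 (by rw [← hyx]; exact hk2)
  · exfalso
    obtain ⟨x₀, u, g₀, hx₀, hfr₀, huz, hux, hne, hg₀⟩ := MThirteen.Row.hasPair
    obtain ⟨k, hk⟩ := conj_six h MThirteen.Row.trNe I.ranks I.six
      (fun x hx h2 => ⟨(good_of_inputs h I hx h2 : Good.{0} _).simple, (good_of_inputs h I hx h2 : Good.{0} _).nc⟩)
      hx₀ hfr₀ huz hux hne hg₀ hx' h2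
    have h5 := card_XT_conj k (x' : Mon) t'
    rw [hk] at h5
    rw [← h5] at hc
    have e1 : ∀ a : Mon, (k * g⁻¹) * a * (k * g⁻¹)⁻¹ = k * (g⁻¹ * a * g⁻¹⁻¹) * k⁻¹ := fun a => by group
    have ex : (x₀ : Mon) = (k * g⁻¹) * x * (k * g⁻¹)⁻¹ := by rw [← hk, e1, hyx]
    have et : k * t' * k⁻¹ = (k * g⁻¹) * t * (k * g⁻¹)⁻¹ := by rw [e1, ht']
    refine zero_nine (t := k * t' * k⁻¹) hx₀ hfr₀ (by rw [← hto']; exact MulEquiv.orderOf_eq (MulAut.conj k) t')
      (fun g' hg' => htz' (g' * k) (by rw [← hg']; group)) (by rw [← hk]; exact LThreeB.conj_comm' hyt'.symm) hc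
      (y := (k * g⁻¹) * y * (k * g⁻¹)⁻¹) (by rw [ex]; exact hcj _) ?_
    intro l hl1 hl2
    rw [et] at hl1
    rw [ex] at hl2
    exact hcj2 _ l hl1 hl2
  · exfalso
    obtain ⟨e⟩ := LThreeB.isoTh_of_inputs h I hx' h2
    obtain ⟨τ, hτ, hd⟩ := card_XT_dvd Nat.prime_three (by norm_num) hx'' hto' hyt'
    rw [LThreeB.card_centralizer_congr e, card_inv_th (by rw [MulEquiv.orderOf_eq, hτ])] at hd
    have h6 := h13.trans hd
    norm_num at h6
  · exact BThree.fi_type hx' h2 (k := g) (by rw [hyx]; group) htt ht1 htz hxt.symm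

/-! ### The Baby Monster -/

set_option maxHeartbeats 2000000 in
/-- **Elements of order nine.** -/
theorem nine_le {L : Type u} [Group L] (h : Spor.IsoB L) {y : L} (hy : orderOf y = 9) :
    Nat.card ↥(centralizer ({y} : Set L)) ≤ 32651735040 := by
  have hfM : Finite Mon := MThirteen.Row.finite
  have hfin : Finite L := Nat.finite_of_card_ne_zero (by rw [NotCT.Orders.b h]; norm_num)
  by_contra hcon
  push Not at hcon
  obtain ⟨t, ht, h2, ⟨e⟩⟩ := exists_cover h
  have hto := MThirteen.Row.ta_order ht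
  have ht1 : t ≠ 1 := by
    rintro rfl
    rw [orderOf_one] at hto
    omega
  have htt : t * t = 1 := by rw [← pow_two, ← hto, pow_orderOf_eq_one]
  -- a lift of order nine
  obtain ⟨g, hg⟩ := QuotientGroup.mk_surjective (e.symm y)
  have hge : e (QuotientGroup.mk g) = y := by
    show e (QuotientGroup.mk g) = y
    rw [hg, e.apply_symm_apply]
  have hy9 : y ^ 9 = 1 := by rw [← hy, pow_orderOf_eq_one]
  have hsq : ∀ c : ↥(centralizer ({t} : Set Mon)), e (QuotientGroup.mk c) = 1 → c ^ 2 = 1 := by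
    intro c hc
    rw [map_eq_one_iff e e.injective, QuotientGroup.eq_one_iff, H480.Ore.center_cases ht1 h2] at hc
    apply Subtype.ext
    show (c : Mon) ^ 2 = 1
    rcases hc with hc | hc
    · rw [hc, one_pow]
    · rw [hc, pow_two, htt]
  obtain ⟨a, ha⟩ : ∃ a, a = g ^ 10 := ⟨_, rfl⟩
  have ha9 : a ^ 9 = 1 := by
    have h3 : e (QuotientGroup.mk (g ^ 9)) = 1 := by rw [QuotientGroup.mk_pow, map_pow, hge, hy9]
    have h4 := hsq _ h3
    rw [ha, ← pow_mul, show 10 * 9 = 9 * 2 * 5 by norm_num, pow_mul, pow_mul, h4, one_pow]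
  have hae : e (QuotientGroup.mk a) = y := by
    rw [ha, QuotientGroup.mk_pow, map_pow, hge, show 10 = 9 + 1 by norm_num, pow_succ, hy9, one_mul]
  obtain ⟨x, hx⟩ : ∃ x, x = a ^ 3 := ⟨_, rfl⟩
  have hxe : e (QuotientGroup.mk x) = y ^ 3 := by rw [hx, QuotientGroup.mk_pow, map_pow, hae]
  have hx3 : x ^ 3 = 1 := by rw [hx, ← pow_mul, ha9]
  have hy3 : y ^ 3 ≠ 1 := by
    intro h3
    have h4 := orderOf_dvd_of_pow_eq_one h3
    rw [hy] at h4
    norm_num at h4
  have hxo : orderOf x = 3 := by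
    have : Fact (Nat.Prime 3) := ⟨Nat.prime_three⟩
    refine orderOf_eq_prime hx3 ?_
    rintro h3
    exact hy3 (by rw [← hxe, h3, QuotientGroup.mk_one, map_one])
  have hnF : ¬ FiType t (x : Mon) := fun hF => H480.Ore.no_cube ht h2 e hxo hF y hxe.symm
  -- `C(y) = C(y ^ 3)`
  have hle : centralizer ({y} : Set L) ≤ centralizer ({y ^ 3} : Set L) := by
    intro c hc
    rw [mem_centralizer_singleton_iff] at hc ⊢
    exact ((show Commute c y from hc).pow_right 3).eq
  have hd := card_dvd_of_le hle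
  have hcy : Nat.card ↥(centralizer ({y ^ 3} : Set L)) = 65303470080 ∧
      Nat.card ↥(centralizer ({y} : Set L)) = 65303470080 := by
    have h3 := BThree.cover_three h ht h2 e hxo
    rw [hxe] at h3
    rcases h3 with (h3 | h3 | h3) | h3
    · have key : ∀ n : ℕ, n ∣ 3 ^ 9 * 3317760 → 32651735040 < n → n = 65303470080 := by
        intro n hn hlt
        obtain ⟨q, hq⟩ := hn
        have h5 : (3 ^ 9 * 3317760 : ℕ) = 65303470080 := by norm_num
        rw [h5] at hq
        have h6 : q < 2 := by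
          by_contra hcon'
          push Not at hcon'
          have : n * 2 ≤ n * q := Nat.mul_le_mul_left n hcon'
          omega
        have h7 : q ≠ 0 := by
          rintro rfl
          omega
        have h8 : q = 1 := by omega
        rw [h8, mul_one] at hq
        exact hq.symm
      have h4 := key _ (hd.trans h3) hcon
      refine ⟨key _ h3 (hcon.trans_le (Nat.le_of_dvd (Nat.card_pos) hd)), h4⟩
    · exfalso
      have h4 : Nat.card ↥(centralizer ({y} : Set L)) ≤ 28570337280 :=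
        (Nat.le_of_dvd (by norm_num) (hd.trans h3)).trans (by norm_num)
      omega
    · exfalso
      have h4 : Nat.card ↥(centralizer ({y} : Set L)) ≤ 139345920 :=
        (Nat.le_of_dvd (by norm_num) (hd.trans h3)).trans (by norm_num)
      omega
    · exact absurd h3 hnF
  have heq : centralizer ({y} : Set L) = centralizer ({y ^ 3} : Set L) :=
    Subgroup.eq_of_le_of_card_ge hle (by rw [hcy.1, hcy.2])
  -- in the Monster
  have hct : Nat.card ↥(XT (x : Mon) t) = 2 * 65303470080 := by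
    have h3 := card_cent h2 e Nat.prime_three (by norm_num) hxo
    rw [← Nat.card_congr (centXT x).toEquiv, hxe, hcy.1] at h3
    rw [h3]
  have k1 : 2 ^ 14 ∣ Nat.card ↥(XT (x : Mon) t) := by rw [hct]; norm_num
  have k2 : 3 ^ 13 ∣ Nat.card ↥(XT (x : Mon) t) := by rw [hct]; norm_num
  have k3 : (a : Mon) ^ 3 = x := by rw [hx, Subgroup.coe_pow]
  have k4 : orderOf (x : Mon) = 3 := by rw [Subgroup.orderOf_coe, hxo]
  refine hnF (mon_nine k4 ht (mem_centralizer_singleton_iff.1 x.2) k1 k2 k3 ?_)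
  intro c hct' hcx
  obtain ⟨c', hc'⟩ : ∃ c' : ↥(centralizer ({t} : Set Mon)), (c' : Mon) = c :=
    ⟨⟨c, mem_centralizer_singleton_iff.2 hct'⟩, rfl⟩
  have h3 : c' * x = x * c' := Subtype.ext (by rw [Subgroup.coe_mul, Subgroup.coe_mul, hc']; exact hcx)
  have h3' : e (QuotientGroup.mk c') * y ^ 3 = y ^ 3 * e (QuotientGroup.mk c') := by
    rw [← hxe]
    have k5 : e (QuotientGroup.mk (c' * x)) = e (QuotientGroup.mk (x * c')) := by rw [h3]
    rw [QuotientGroup.mk_mul, QuotientGroup.mk_mul, map_mul, map_mul] at k5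
    exact k5
  have h4 : e (QuotientGroup.mk c') ∈ centralizer ({y} : Set L) := by
    rw [heq]
    exact mem_centralizer_singleton_iff.2 h3'
  have h4' : e (QuotientGroup.mk c') * y = y * e (QuotientGroup.mk c') := mem_centralizer_singleton_iff.1 h4
  have h6 : (QuotientGroup.mk a : ↥(centralizer ({t} : Set Mon)) ⧸ center ↥(centralizer ({t} : Set Mon))) *
      QuotientGroup.mk c' = QuotientGroup.mk c' * QuotientGroup.mk a := by
    apply e.injective
    rw [map_mul, map_mul, hae]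
    exact h4'.symm
  have h5 := lift_comm (Z := center ↥(centralizer ({t} : Set Mon))) le_rfl h2 (by decide : Odd 9) ha9 h6
  have h7 := congrArg Subtype.val h5
  rw [Subgroup.coe_mul, Subgroup.coe_mul, hc'] at h7
  exact h7.symm

end Cfsg.Agent.H494.TwoB
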