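import Cfsg.Agent.H494.TwoB.P1
import Cfsg.Agent.H658.TwoB.Four
import Cfsg.Agent.H258.TwoB.Final
import Cfsg.Agent.H570.TwoB.Nine
import Cfsg.Agent.H705.OreB.Prime
import Cfsg.Agent.H480.QS.BThreeB
import Cfsg.Agent.H326.QS.FiFinal
import Cfsg.Agent.H844.TwoB.P8

/-!
# The row 2.B of S2491, S2492 (helper494)

`rowA_B_of` : `RowA K` for `Spor.IsoB K`, from `Base` (the classification and the table of the orders).
-/

set_option autoImplicit false
set_option maxRecDepth 100000

universe u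

namespace Cfsg.Agent.H494.TwoB

open Cfsg Cfsg.Agent Cfsg.Agent.H777.Ore Cfsg.Agent.H844.Ore Cfsg.Agent.H480.Ore
open Cfsg.Agent.H630.Baby (Mon)
open Cfsg.Agent.BpSpor.MBigModel (MG zz)
open Cfsg.Agent.LThreeB (XT)
open Cfsg.Agent.H715.Mon.Grp (SThree sThree)
open Cfsg.Agent.H6.QO (RowN RowA)
open Subgroup (centralizer mem_centralizer_singleton_iff center)

/-- the prime orders -/
theorem h5_le (B : H940.Eng.Base) (y : Spor.BabyMonster) (hp : (orderOf y).Prime) (h5 : 5 ≤ orderOf y) :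
    Nat.card ↥(centralizer ({y} : Set Spor.BabyMonster)) ≤ 1500000000 := by
  have h : Spor.IsoB Spor.BabyMonster := ⟨MulEquiv.refl _⟩
  have hfin : Finite Spor.BabyMonster := Nat.finite_of_card_ne_zero (by rw [NotCT.Orders.b h]; norm_num)
  by_cases e5 : orderOf y = 5
  · exact (H705.OreB.Five.five h e5).trans (by norm_num)
  have h7 : 7 ≤ orderOf y := by
    by_contra hcon
    have h6 : orderOf y = 6 := by omega
    rw [h6] at hp
    norm_num at hp
  by_cases e23 : orderOf y = 23
  · rw [H715.Mon.Exact.B.cent23 (sThree B) h e23]; norm_num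
  exact (H705.OreB.Small.le_small B h hp h7 e23 rfl).trans (by norm_num)

/-- **2.B from P8.** -/
theorem rowA_of_p8 (B : H940.Eng.Base)
    (hP8 : ∀ {x t : MG}, orderOf x = 3 → LThreeB.Row.TA t → x * t = t * x →
      TwoW x t ∨ Nat.card ↥(XT x t) ≤ 3000000000 ∨ FiType t x) : RowA Spor.BabyMonster := by
  have hB : Spor.IsoB Spor.BabyMonster := ⟨MulEquiv.refl _⟩
  refine rowA_of (K := 1500000000) (by norm_num) H258.TwoB.hTab H658.TwoB.h23 H658.TwoB.h4
    (fun hw ht hc hwt hu h2 => H658.TwoB.cp hw ht hc hwt hu h2) (p1 (sThree B)) (h5_le B)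
    (fun y hy => (H570.TwoB.Nine.nine_le hB hy).trans (by norm_num)) ?_
    (fun hx ht hxt => (hP8 hx ht hxt).imp_right fun h => h.imp_left fun h => h.trans (by norm_num))
  intro u hA h2 e x t n hx hF ht htx
  rcases H480.QS.three_A_cover2 hA h2 e hx hF H326.QS.FiRow.rowN_Fi22
    (fun g hg => H570.Ore.RowB.t1_b (sThree B) hB g hg) ht htx with h | h
  · exact Or.inl h
  · exact Or.inr (h.trans (by norm_num))

/-- **The row 2.B of S2491, S2492.** -/
theorem rowA_model (B : H940.Eng.Base) : RowA Spor.BabyMonster :=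
  rowA_of_p8 B fun hx ht hxt => H844.TwoB.P8.p8 (K := 1500000000) (by norm_num) hx ht hxt

theorem rowA_B_of (B : H940.Eng.Base) {K : Type u} [Group K] (h : Spor.IsoB K) : RowA K := by
  obtain ⟨e⟩ := h
  exact (rowA_model B).congr e.symm

end Cfsg.Agent.H494.TwoB
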