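import Cfsg.Agent.H844.Ore.BThree
import Cfsg.Agent.KFacts.SuzLarge

/-!
# `Suz`: an element of order three does not centralize a subgroup of index two of `C(2A)` (helper494)

`O_2(C(z₀)) = 2^(1+6)` contains its centralizer.
-/

set_option autoImplicit false

namespace Cfsg.Agent.H494.TwoB

open Cfsg Cfsg.Agent
open Cfsg.Spor (Suz)
open Cfsg.Agent.SuzThree.CentA Cfsg.Agent.SuzThree.QZero
open Subgroup (centralizer mem_centralizer_singleton_iff)

universe v

/-- the model -/
theorem suz_z0 {w : Suz} (hw : w ^ 3 = 1) (J : Subgroup Suz) (hwz : w * z0 = z0 * w) (hJ : ∀ a ∈ J, a * w = w * a)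
    (h2 : ∀ a b : Suz, a * z0 = z0 * a → b * z0 = z0 * b → a ∉ J → b ∉ J → a * b ∈ J) : w = 1 := by
  have h2f : Fact (Nat.Prime 2) := ⟨Nat.prime_two⟩
  have hwC : w ∈ C1 := mem_C1.2 hwz
  -- `w` centralizes `Q0`
  have key : ∀ y ∈ Q0, y * w = w * y := by
    intro y hy
    have hyz : y * z0 = z0 * y := mem_C1.1 (Q0_le hy)
    by_cases hyJ : y ∈ J
    · exact hJ y hyJ
    obtain ⟨r, hr⟩ : ∃ r, r = w * y * w⁻¹ * y⁻¹ := ⟨_, rfl⟩
    have hwy : w * y * w⁻¹ ∈ Q0 := KFacts.SuzR.normal_R hwC hy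
    have hrQ : r ∈ Q0 := by
      rw [hr]
      exact Q0.mul_mem hwy (Q0.inv_mem hy)
    have hwyJ : w * y * w⁻¹ ∉ J := by
      intro h3
      apply hyJ
      have h4 := hJ _ h3
      have h5 : w * y * w⁻¹ = y := by
        have h6 : w * y = w * (w * y * w⁻¹) := by rw [← h4]; group
        have h7 := mul_left_cancel h6
        rw [← h7]
      rwa [h5] at h3
    have hrJ : r ∈ J := by
      rw [hr]
      refine h2 _ _ (mem_C1.1 (Q0_le hwy)) ?_ hwyJ (fun h3 => hyJ (inv_mem_iff.1 h3))
      exact mem_C1.1 (C1.inv_mem (Q0_le hy))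
    have hrw : r * w = w * r := hJ r hrJ
    have e1 : w * y * w⁻¹ = r * y := by rw [hr]; group
    have e2 : (w * w) * y * (w * w)⁻¹ = r * r * y := by
      calc (w * w) * y * (w * w)⁻¹ = w * (w * y * w⁻¹) * w⁻¹ := by group
        _ = (w * r) * y * w⁻¹ := by rw [e1]; group
        _ = r * (w * y * w⁻¹) := by rw [← hrw]; group
        _ = r * r * y := by rw [e1]; group
    have e3 : (w * w * w) * y * (w * w * w)⁻¹ = r * r * r * y := by
      calc (w * w * w) * y * (w * w * w)⁻¹ = w * ((w * w) * y * (w * w)⁻¹) * w⁻¹ := by group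
        _ = (w * (r * r)) * y * w⁻¹ := by rw [e2]; group
        _ = (r * r) * (w * y * w⁻¹) := by
            have : w * (r * r) = (r * r) * w := by
              rw [← mul_assoc, ← hrw, mul_assoc, ← hrw, mul_assoc]
            rw [this]; group
        _ = r * r * r * y := by rw [e1]; group
    have hw' : w * w * w = 1 := by rw [← hw, pow_succ, pow_two]
    rw [hw', one_mul, inv_one, mul_one] at e3
    have hr3 : r ^ 3 = 1 := by
      rw [pow_succ, pow_two]
      exact mul_eq_right.1 e3.symm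
    obtain ⟨k, hk⟩ := isPGroup_Q0 ⟨r, hrQ⟩
    have hk' : r ^ 2 ^ k = 1 := congrArg Subtype.val hk
    have h4 : orderOf r = 1 := Nat.eq_one_of_dvd_coprimes (Nat.Coprime.pow_left k (by norm_num : Nat.Coprime 2 3))
      (orderOf_dvd_of_pow_eq_one hk') (orderOf_dvd_of_pow_eq_one hr3)
    rw [orderOf_eq_one_iff] at h4
    rw [h4, one_mul] at e1
    exact (mul_inv_eq_iff_eq_mul.1 e1).symm
  rcases KFacts.SuzR.centralizer_R key with h3 | h3
  · exact h3
  · have h4 : z0 * z0 = 1 := z_sq
    rw [h3, pow_succ, pow_two, h4, one_mul] at hw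
    rw [h3, hw]

/-- **The statement** for an involution with `|C(v)| = 3317760` or `161280`, the second case excluded. -/
theorem suz_triv {A : Type v} [Group A] (h : Spor.IsoSuz A) {v w : A} (hv : v * v = 1) (hv1 : v ≠ 1)
    (hc : Nat.card ↥(centralizer ({v} : Set A)) = 3317760) (hw : w ^ 3 = 1) (hwv : w * v = v * w) (J : Subgroup A)
    (hJ : ∀ a ∈ J, a * w = w * a)
    (h2 : ∀ a b : A, a * v = v * a → b * v = v * b → a ∉ J → b ∉ J → a * b ∈ J) : w = 1 := by
  obtain ⟨e⟩ := h
  rw [LThreeB.card_centralizer_congr e] at hc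
  rcases CTwoTab.Suz.classes (t := e v) (by rw [← map_mul, hv, map_one])
    (fun h1 => hv1 (e.injective (by rw [h1, map_one]))) with h3 | h3
  · obtain ⟨c, hc'⟩ := isConj_iff.1 h3
    obtain ⟨F, hF⟩ : ∃ F : A ≃* Suz, F = e.trans (MulAut.conj c⁻¹) := ⟨_, rfl⟩
    have hFv : F v = z0 := by
      rw [hF]
      show c⁻¹ * e v * c⁻¹⁻¹ = z0
      rw [← hc']
      group
    have h4 : F w = 1 := by
      refine suz_z0 (by rw [← map_pow, hw, map_one]) (J.map F.toMonoidHom) (by rw [← hFv, ← map_mul, hwv, map_mul]) ?_ ?_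
      · rintro _ ⟨a, ha, rfl⟩
        show F a * F w = F w * F a
        rw [← map_mul, hJ a ha, map_mul]
      · intro a b ha hb haJ hbJ
        have key : ∀ a : Suz, a * z0 = z0 * a → F.symm a * v = v * F.symm a := by
          intro a ha
          apply F.injective
          rw [map_mul, map_mul, F.apply_symm_apply, hFv, ha]
        refine ⟨F.symm a * F.symm b, h2 _ _ (key a ha) (key b hb) (fun h5 => haJ ⟨_, h5, F.apply_symm_apply a⟩)
          (fun h5 => hbJ ⟨_, h5, F.apply_symm_apply b⟩), ?_⟩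
        show F (F.symm a * F.symm b) = a * b
        rw [map_mul, F.apply_symm_apply, F.apply_symm_apply]
    exact F.injective (by rw [h4, map_one])
  · exfalso
    rw [← MThirteen.card_cent_conj h3, KFacts.SuzTwoB.card_CE] at hc
    norm_num at hc

end Cfsg.Agent.H494.TwoB
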